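import Mathlib

set_option autoImplicit false

namespace Cfsg.Agent.H38

/-- An abelian Sylow `p`-subgroup (`p` odd) containing a nontrivial real element has an automizer of even order. -/
theorem two_dvd_of_real {G : Type*} [Group G] [Finite G] {p : ℕ} [Fact p.Prime]
    (P : Sylow p G) (hP : IsMulCommutative (P : Subgroup G)) (hp : p ≠ 2) (x : G) (hx : x ∈ P) (hx1 : x ≠ 1)
    (hc : IsConj x x⁻¹) :
    2 ∣ ((Subgroup.centralizer ((P : Subgroup G) : Set G)).subgroupOf (Subgroup.normalizer ((P : Subgroup G) : Set G))).index := by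
  obtain ⟨g, hg⟩ := isConj_iff.1 hc
  have hy : (g⁻¹)⁻¹ * x * g⁻¹ ∈ P := by
    rw [inv_inv, hg]; exact inv_mem hx
  obtain ⟨n, hn, hn'⟩ := Sylow.conj_eq_normalizer_conj_of_mem P x g⁻¹ hx hy
  rw [inv_inv, hg] at hn'
  -- n⁻¹ x n = x⁻¹
  have hpow : ∀ k : ℕ, Odd k → (n⁻¹) ^ k * x * n ^ k = x⁻¹ := by
    intro k hk
    obtain ⟨m, rfl⟩ := hk
    induction m with
    | zero => simpa using hn'.symm
    | succ m ih =>
      have e1 : n⁻¹ * x⁻¹ * n = x := by
        have := congrArg (·⁻¹) hn'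
        simp only [inv_inv, mul_inv_rev] at this
        rw [mul_assoc]; exact this.symm
      have e2 : n⁻¹ * x * n = x⁻¹ := hn'.symm
      calc (n⁻¹) ^ (2 * (m + 1) + 1) * x * n ^ (2 * (m + 1) + 1)
          = n⁻¹ * (n⁻¹ * ((n⁻¹) ^ (2 * m + 1) * x * n ^ (2 * m + 1)) * n) * n := by
            rw [show 2 * (m + 1) + 1 = (2 * m + 1) + 1 + 1 by ring, pow_succ' n⁻¹, pow_succ' n⁻¹, pow_succ n,
              pow_succ n]
            group
        _ = n⁻¹ * (n⁻¹ * x⁻¹ * n) * n := by rw [ih]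
        _ = x⁻¹ := by rw [e1, e2]
  set N := Subgroup.normalizer ((P : Subgroup G) : Set G) with hN
  set C := (Subgroup.centralizer ((P : Subgroup G) : Set G)).subgroupOf N with hCdef
  have hnormal : C.Normal := by rw [hCdef, hN]; infer_instance
  let a : N ⧸ C := QuotientGroup.mk (⟨n, hn⟩ : N)
  have ha : Even (orderOf a) := by
    rw [← Nat.not_odd_iff_even]
    intro hodd
    have h1 : a ^ orderOf a = 1 := pow_orderOf_eq_one a
    have h2 : (⟨n, hn⟩ : N) ^ orderOf a ∈ C := by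
      rw [← QuotientGroup.eq_one_iff]
      exact h1
    have h3 : n ^ orderOf a ∈ Subgroup.centralizer ((P : Subgroup G) : Set G) := by
      simpa [hCdef, Subgroup.mem_subgroupOf] using h2
    have h4 := Subgroup.mem_centralizer_iff.1 h3 x hx
    have h5 := hpow _ hodd
    rw [inv_pow, mul_assoc, h4, inv_mul_cancel_left] at h5
    -- x = x⁻¹
    have h6 : x ^ 2 = 1 := by
      rw [pow_two]
      nth_rewrite 2 [h5]
      simp
    have h7 : orderOf x ∣ 2 := orderOf_dvd_of_pow_eq_one h6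
    obtain ⟨k, hk⟩ := (IsPGroup.iff_orderOf.1 P.isPGroup') ⟨x, hx⟩
    have h8 : orderOf x = p ^ k := by
      rw [← hk]; exact (Subgroup.orderOf_mk x hx).symm
    rcases Nat.eq_zero_or_pos k with hk0 | hk0
    · rw [hk0, pow_zero, orderOf_eq_one_iff] at h8
      exact hx1 h8
    · have : p ∣ 2 := (dvd_pow_self p hk0.ne').trans (h8 ▸ h7)
      exact hp ((Nat.prime_dvd_prime_iff_eq Fact.out Nat.prime_two).1 this)
  have hcard : C.index = Nat.card (N ⧸ C) := rfl
  rw [hcard]
  exact (even_iff_two_dvd.1 ha).trans (orderOf_dvd_natCard a)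

end Cfsg.Agent.H38
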