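import Mathlib

set_option autoImplicit false

namespace Cfsg.Agent.H38.LN

universe u v

open Subgroup MulAction
open scoped commutatorElement

/-- the smallest normal subgroup with abelian `p`-factor group -/
def Ap (p : ℕ) (H : Type u) [Group H] : Subgroup H :=
  Subgroup.closure ({g : H | ∃ x y : H, g = ⁅x, y⁆} ∪ {g : H | (orderOf g).Coprime p})

theorem ap_characteristic (p : ℕ) (H : Type u) [Group H] : (Ap p H).Characteristic := by
  rw [Subgroup.characteristic_iff_map_le]
  intro φ
  rw [Ap, MonoidHom.map_closure, Subgroup.closure_le]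
  rintro _ ⟨g, hg, rfl⟩
  apply Subgroup.subset_closure
  rcases hg with ⟨x, y, rfl⟩ | hg
  · left
    exact ⟨φ x, φ y, by simp [commutatorElement_def]⟩
  · right
    show (orderOf (φ g)).Coprime p
    have h1 : orderOf (φ g) = orderOf g := orderOf_injective φ.toMonoidHom φ.injective g
    rw [h1]; exact hg

theorem coprime_mem_ap {p : ℕ} {H : Type u} [Group H] {g : H} (h : (orderOf g).Coprime p) : g ∈ Ap p H :=
  Subgroup.subset_closure (Or.inr h)

open scoped IsMulCommutative in
theorem ap_le_ker {p : ℕ} [Fact p.Prime] {H : Type u} [Group H] [Finite H] (P : Sylow p H) :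
    Ap p H ≤ (P : Subgroup H).transferFocal.ker := by
  rw [Ap, Subgroup.closure_le]
  rintro g (⟨x, y, rfl⟩ | hg)
  · exact Abelianization.commutator_subset_ker (P : Subgroup H).transferFocal
      (Subgroup.commutator_mem_commutator (Subgroup.mem_top x) (Subgroup.mem_top y))
  · show (P : Subgroup H).transferFocal g = 1
    have hQ : IsPGroup p ((P : Subgroup H) ⧸ (P : Subgroup H).focalSubgroupOf) := P.2.to_quotient _
    obtain ⟨k, hk⟩ := hQ ((P : Subgroup H).transferFocal g)
    have h1 : orderOf ((P : Subgroup H).transferFocal g) ∣ orderOf g := orderOf_map_dvd _ _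
    have h2 : orderOf ((P : Subgroup H).transferFocal g) ∣ p ^ k := orderOf_dvd_of_pow_eq_one hk
    have h3 : (orderOf ((P : Subgroup H).transferFocal g)).Coprime (p ^ k) :=
      (Nat.Coprime.coprime_dvd_left h1 hg).pow_right k
    have h4 : orderOf ((P : Subgroup H).transferFocal g) = 1 := Nat.Coprime.eq_one_of_dvd h3 h2
    exact orderOf_eq_one_iff.1 h4

theorem ap_quot_isPGroup {p : ℕ} [Fact p.Prime] {H : Type u} [Group H] [Finite H] [(Ap p H).Normal] :
    IsPGroup p (H ⧸ Ap p H) := by
  intro x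
  obtain ⟨h, rfl⟩ := QuotientGroup.mk_surjective x
  -- write `orderOf h = p^k * m`
  have hpos : orderOf h ≠ 0 := (orderOf_pos h).ne'
  obtain ⟨k, m, hm, he⟩ := Nat.exists_eq_pow_mul_and_not_dvd hpos p (Fact.out : p.Prime).ne_one
  refine ⟨k, ?_⟩
  rw [← QuotientGroup.mk_pow, QuotientGroup.eq_one_iff]
  apply coprime_mem_ap
  have h1 : orderOf (h ^ p ^ k) = m := by
    rw [orderOf_pow, he, Nat.gcd_eq_right (Dvd.intro _ rfl)]
    exact Nat.mul_div_cancel_left m (pow_pos (Fact.out : p.Prime).pos k)
  rw [h1]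
  exact ((Fact.out : p.Prime).coprime_iff_not_dvd.2 hm).symm

theorem ap_sup_sylow {p : ℕ} [Fact p.Prime] {H : Type u} [Group H] [Finite H] (P : Sylow p H) :
    Ap p H ⊔ (P : Subgroup H) = ⊤ := by
  haveI := ap_characteristic p H
  rw [← Subgroup.index_eq_one]
  have h1 : (Ap p H ⊔ (P : Subgroup H)).index ∣ (Ap p H).index := Subgroup.index_dvd_of_le le_sup_left
  have h2 : (Ap p H ⊔ (P : Subgroup H)).index ∣ (P : Subgroup H).index :=
    Subgroup.index_dvd_of_le le_sup_right
  obtain ⟨k, hk⟩ := IsPGroup.iff_card.1 (ap_quot_isPGroup (p := p) (H := H))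
  rw [← Subgroup.index_eq_card] at hk
  rw [hk] at h1
  have h3 : ¬ p ∣ (P : Subgroup H).index := P.not_dvd_index
  have h4 : ((P : Subgroup H).index).Coprime (p ^ k) :=
    (((Fact.out : p.Prime).coprime_iff_not_dvd.2 h3).symm).pow_right k
  exact Nat.Coprime.eq_one_of_dvd (Nat.Coprime.coprime_dvd_left h2 h4) h1

theorem characteristic_map {H : Type u} [Group H] {N : Subgroup H} (hN : N.Characteristic)
    {Q : Subgroup N} (hQ : Q.Characteristic) : (Q.map N.subtype).Characteristic := by
  rw [Subgroup.characteristic_iff_map_le]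
  intro φ
  have e : N.map φ.toMonoidHom = N := Subgroup.characteristic_iff_map_eq.1 hN φ
  let ψ : N ≃* N := (φ.subgroupMap N).trans (MulEquiv.subgroupCongr e)
  rintro _ ⟨_, ⟨q, hq, rfl⟩, rfl⟩
  have h1 : ψ q ∈ Q := Subgroup.characteristic_iff_map_le.1 hQ ψ ⟨q, hq, rfl⟩
  exact ⟨ψ q, h1, rfl⟩

/-- the hypothesis (Z) -/
def PropZ (H : Type u) {Δ : Type v} [Group H] [MulAction H Δ] (b : Δ) : Prop :=
  ∀ p, p.Prime → ∀ x : H, x ≠ 1 → (∃ j, x ^ p ^ j = 1) → x • b = b →
    (∀ c : Δ, x • c = c → ∃ s : H, s * x = x * s ∧ (∃ j, s ^ 2 ^ j = 1) ∧ s • b = c) ∧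
    ¬ p ∣ Nat.card {c : Δ // x • c = c}

theorem step {H : Type u} [Group H] [Finite H] {Δ : Type v} [MulAction H Δ]
    (htrans : ∀ b c : Δ, ∃ h : H, h • b = c) (b : Δ)
    (hsol : Group.IsSolvable (MulAction.stabilizer H b)) (hodd : Odd (Nat.card (stabilizer H b)))
    (hne : Nat.card (stabilizer H b) ≠ 1) (hZ : PropZ H b) :
    ∃ N : Subgroup H, N.Characteristic ∧ (∀ c : Δ, ∃ n ∈ N, n • b = c) ∧ (∀ s : H, (∃ j, s ^ 2 ^ j = 1) → s ∈ N) ∧
      ¬ stabilizer H b ≤ N := by
  classical
  haveI := hsol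
  haveI : Finite Δ := Finite.of_surjective (fun h : H => h • b) (htrans b)
  haveI : Nontrivial (stabilizer H b) := by
    by_contra hh
    rw [not_nontrivial_iff_subsingleton] at hh
    exact hne (Nat.card_of_subsingleton 1)
  have hlt : _root_.commutator (stabilizer H b) < ⊤ := by
    exact Group.IsSolvable.commutator_lt_top_of_nontrivial _
  -- a prime dividing the index
  have hidx : (_root_.commutator (stabilizer H b)).index ≠ 1 := by
    rw [Ne, Subgroup.index_eq_one]; exact hlt.ne
  obtain ⟨p, hp, hpd⟩ := Nat.exists_prime_and_dvd hidx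
  haveI : Fact p.Prime := ⟨hp⟩
  have hpD : p ∣ Nat.card (stabilizer H b) := hpd.trans (Subgroup.index_dvd_card _)
  have hp2 : p ≠ 2 := by
    rintro rfl
    exact (Nat.not_even_iff_odd.2 hodd) (even_iff_two_dvd.2 hpD)
  -- `p` does not divide the degree
  have hΔ : ¬ p ∣ Nat.card Δ := by
    obtain ⟨x, hx⟩ := exists_prime_orderOf_dvd_card' p hpD
    have hx1 : (x : H) ≠ 1 := by
      intro h
      have : x = 1 := Subtype.ext h
      rw [this, orderOf_one] at hx
      exact hp.ne_one hx.symm
    have hxp : (x : H) ^ p ^ 1 = 1 := by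
      rw [pow_one, ← hx]
      have := pow_orderOf_eq_one x
      exact_mod_cast congrArg Subtype.val this
    have h1 := (hZ p hp x hx1 ⟨1, hxp⟩ x.2).2
    have hpg : IsPGroup p (Subgroup.zpowers (x : H)) := by
      rw [IsPGroup.iff_card]
      refine ⟨1, ?_⟩
      rw [Nat.card_zpowers, Subgroup.orderOf_coe, hx, pow_one]
    have h2 := hpg.card_modEq_card_fixedPoints (α := Δ)
    have h3 : Nat.card (fixedPoints (Subgroup.zpowers (x : H)) Δ) = Nat.card {c : Δ // (x : H) • c = c} := by
      apply Nat.card_congr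
      refine Equiv.subtypeEquivRight ?_
      intro c
      constructor
      · intro h; exact h ⟨(x : H), Subgroup.mem_zpowers _⟩
      · intro h
        rintro ⟨y, hy⟩
        have : y ∈ stabilizer H c := by
          have h4 : Subgroup.zpowers (x : H) ≤ stabilizer H c := by
            rw [Subgroup.zpowers_le]; exact h
          exact h4 hy
        exact this
    rw [h3] at h2
    intro h4
    exact h1 ((Nat.ModEq.dvd_iff h2 (dvd_refl p)).1 h4)
  -- Sylow subgroup of H inside D
  obtain ⟨P0⟩ : Nonempty (Sylow p (stabilizer H b)) := inferInstance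
  have hcard : Nat.card H = Nat.card (stabilizer H b) * Nat.card Δ := by
    have h1 := Subgroup.card_mul_index (stabilizer H b)
    have h2 : (stabilizer H b).index = Nat.card Δ := by
      haveI : MulAction.IsPretransitive H Δ := ⟨htrans⟩
      exact MulAction.index_stabilizer_of_transitive H b
    rw [← h1, h2]
  have hP0 : Nat.card ((P0 : Subgroup (stabilizer H b)).map (stabilizer H b).subtype) =
      p ^ (Nat.card H).factorization p := by
    rw [Subgroup.card_map_of_injective (Subgroup.subtype_injective _), P0.card_eq_multiplicity, hcard]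
    congr 1
    have hn1 : Nat.card (stabilizer H b) ≠ 0 := Nat.card_pos.ne'
    haveI : Nonempty Δ := ⟨b⟩
    have hn2 : Nat.card Δ ≠ 0 := Nat.card_pos.ne'
    rw [Nat.factorization_mul hn1 hn2, Finsupp.add_apply, Nat.factorization_eq_zero_of_not_dvd hΔ, add_zero]
  let P : Sylow p H := Sylow.ofCard _ hP0
  have hPD : (P : Subgroup H) ≤ stabilizer H b := by
    intro x hx
    have hx' : x ∈ (P0 : Subgroup (stabilizer H b)).map (stabilizer H b).subtype := hx
    obtain ⟨y, -, rfl⟩ := hx'
    exact y.2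
  haveI hch := ap_characteristic p H
  refine ⟨Ap p H, hch, ?_, ?_, ?_⟩
  · intro c
    obtain ⟨h, hh⟩ := htrans b c
    have h1 : h ∈ Ap p H ⊔ (P : Subgroup H) := by rw [ap_sup_sylow P]; trivial
    rw [← SetLike.mem_coe, Subgroup.normal_mul] at h1
    obtain ⟨n, hn, d, hd, rfl⟩ := h1
    refine ⟨n, hn, ?_⟩
    have h2 : d • b = b := hPD hd
    rw [← hh]
    simp only [mul_smul, h2]
  · rintro s ⟨j, hj⟩
    apply coprime_mem_ap
    have h1 : orderOf s ∣ 2 ^ j := orderOf_dvd_of_pow_eq_one hj
    have h2 : (2 ^ j).Coprime p := by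
      apply Nat.Coprime.pow_left
      exact (Nat.coprime_primes Nat.prime_two hp).2 hp2.symm
    exact Nat.Coprime.coprime_dvd_left h1 h2
  · intro hle
    have h1 : (P : Subgroup H) ≤ (P : Subgroup H).focalSubgroup := by
      rw [← Subgroup.ker_transferFocal_inf_eq_focalSubgroup P]
      exact le_inf ((hPD.trans hle).trans (ap_le_ker P)) le_rfl
    have h2 : (P : Subgroup H).focalSubgroup ≤ ⁅stabilizer H b, stabilizer H b⁆ := by
      rw [Subgroup.focalSubgroup_def, Subgroup.closure_le]
      rintro g ⟨hg, x, hx, w, rfl⟩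
      by_cases hx1 : x = 1
      · subst hx1; simp [commutatorElement_def]
      have hxb : x • b = b := hPD hx
      have hw : w * x * w⁻¹ ∈ (P : Subgroup H) := by
        have e : w * x * w⁻¹ = ⁅x, w⁆⁻¹ * x := by rw [commutatorElement_def]; group
        rw [e]; exact Subgroup.mul_mem _ (Subgroup.inv_mem _ hg) hx
      have hwb : (w * x * w⁻¹) • b = b := hPD hw
      have hc : x • (w⁻¹ • b) = w⁻¹ • b := by
        have h3 : x • (w⁻¹ • b) = w⁻¹ • ((w * x * w⁻¹) • b) := by
          simp only [← mul_smul]; congr 1; group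
        rw [h3, hwb]
      obtain ⟨j, hj⟩ := P.2 ⟨x, hx⟩
      have hj' : x ^ p ^ j = 1 := by
        have := congrArg Subtype.val hj
        simpa using this
      obtain ⟨s, hs1, -, hs3⟩ := (hZ p hp x hx1 ⟨j, hj'⟩ hxb).1 _ hc
      have hws : w * s ∈ stabilizer H b := by
        show (w * s) • b = b
        rw [mul_smul, hs3, smul_inv_smul]
      have e : ⁅x, w⁆ = ⁅x, w * s⁆ := by
        rw [commutatorElement_def, commutatorElement_def, mul_inv_rev]
        have : s * x⁻¹ = x⁻¹ * s := by
          have h4 : x⁻¹ * (s * x) * x⁻¹ = x⁻¹ * (x * s) * x⁻¹ := by rw [hs1]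
          have h5 : x⁻¹ * (s * x) * x⁻¹ = x⁻¹ * s := by group
          have h6 : x⁻¹ * (x * s) * x⁻¹ = s * x⁻¹ := by group
          rw [← h5, ← h6, h4]
        have e1 : x * (w * s) * x⁻¹ * (s⁻¹ * w⁻¹) = x * w * (s * x⁻¹) * s⁻¹ * w⁻¹ := by group
        rw [e1, this]; group
      rw [SetLike.mem_coe, e]
      exact Subgroup.commutator_mem_commutator hxb hws
    -- contradiction
    have h3 : (P0 : Subgroup (stabilizer H b)) ≤ _root_.commutator (stabilizer H b) := by
      intro y hy
      have h4 : (y : H) ∈ (P : Subgroup H) := by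
        show (y : H) ∈ (P0 : Subgroup (stabilizer H b)).map (stabilizer H b).subtype
        exact ⟨y, hy, rfl⟩
      have h5 := h2 (h1 h4)
      rw [← Subgroup.map_subtype_commutator] at h5
      obtain ⟨y', hy', hyy⟩ := h5
      have : y' = y := Subtype.ext hyy
      rwa [← this]
    exact P0.not_dvd_index (hpd.trans (Subgroup.index_dvd_of_le h3))

/-- **Lemma N** (iterated focal subgroup theorem): a transitive group with solvable point stabilizer of odd order
in which prime power order elements of the stabilizer satisfy (Z) has a characteristic regular subgroup. -/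
theorem regular_complement' (n : ℕ) : ∀ {H : Type u} [Group H] [Finite H] {Δ : Type v} [MulAction H Δ]
    (_ : ∀ b c : Δ, ∃ h : H, h • b = c) (b : Δ)
    (_ : Group.IsSolvable (MulAction.stabilizer H b)) (_ : Odd (Nat.card (stabilizer H b)))
    (_ : PropZ H b) (_ : Nat.card (stabilizer H b) ≤ n),
    ∃ Q : Subgroup H, Q.Characteristic ∧ (∀ q ∈ Q, q • b = b → q = 1) ∧ (∀ c : Δ, ∃ q ∈ Q, q • b = c) := by
  induction n with
  | zero =>
    intro H _ _ Δ _ _ b _ _ _ hn
    exact absurd hn (by have := Nat.card_pos (α := stabilizer H b); omega)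
  | succ n ih =>
    intro H _ _ Δ _ htrans b hsol hodd hZ hn
    by_cases hne : Nat.card (stabilizer H b) = 1
    · refine ⟨⊤, inferInstance, ?_, ?_⟩
      · intro q _ hq
        have h1 : Subsingleton (stabilizer H b) := (Nat.card_eq_one_iff_unique.1 hne).1
        have h2 : (⟨q, hq⟩ : stabilizer H b) = 1 := Subsingleton.elim _ _
        exact congrArg Subtype.val h2
      · intro c
        obtain ⟨h, hh⟩ := htrans b c
        exact ⟨h, trivial, hh⟩
    · obtain ⟨N, hN, hNt, hN2, hND⟩ := step htrans b hsol hodd hne hZ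
      -- the stabilizer in N
      have hmap : (stabilizer N b).map N.subtype = N ⊓ stabilizer H b := by
        ext x
        constructor
        · rintro ⟨y, hy, rfl⟩
          exact ⟨y.2, hy⟩
        · rintro ⟨hx, hxb⟩
          exact ⟨⟨x, hx⟩, hxb, rfl⟩
      have hc1 : Nat.card (stabilizer N b) = Nat.card (N ⊓ stabilizer H b : Subgroup H) := by
        rw [← hmap, Subgroup.card_map_of_injective (Subgroup.subtype_injective _)]
      have hlt : (N ⊓ stabilizer H b : Subgroup H) < stabilizer H b := by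
        refine lt_of_le_of_ne inf_le_right ?_
        intro h
        exact hND (by rw [← h]; exact inf_le_left)
      have hc2 : Nat.card (N ⊓ stabilizer H b : Subgroup H) < Nat.card (stabilizer H b) := by
        exact Set.Finite.card_lt_card (Set.toFinite _) hlt
      have hdvd : Nat.card (N ⊓ stabilizer H b : Subgroup H) ∣ Nat.card (stabilizer H b) :=
        Subgroup.card_dvd_of_le inf_le_right
      have hodd' : Odd (Nat.card (stabilizer N b)) := by
        rw [hc1]; exact Odd.of_dvd_nat hodd hdvd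
      let f : stabilizer N b →* stabilizer H b :=
        { toFun := fun y => ⟨((y : N) : H), y.2⟩
          map_one' := rfl
          map_mul' := fun _ _ => rfl }
      have hf : Function.Injective f := by
        intro y z hyz
        have : (((y : N)) : H) = ((z : N) : H) := congrArg (fun w : stabilizer H b => (w : H)) hyz
        exact Subtype.ext (Subtype.ext this)
      have hsol' : Group.IsSolvable (stabilizer N b) := Group.isSolvable_of_isSolvable_injective hf
      have htrans' : ∀ c d : Δ, ∃ h : N, h • c = d := by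
        intro c d
        obtain ⟨n1, hn1, h1⟩ := hNt c
        obtain ⟨n2, hn2, h2⟩ := hNt d
        refine ⟨⟨n2 * n1⁻¹, N.mul_mem hn2 (N.inv_mem hn1)⟩, ?_⟩
        show (n2 * n1⁻¹) • c = d
        rw [← h1, ← h2, mul_smul, inv_smul_smul]
      have hZ' : PropZ N b := by
        intro p hp x hx hj hxb
        have hx' : (x : H) ≠ 1 := fun h => hx (Subtype.ext h)
        obtain ⟨j, hj⟩ := hj
        have hj' : (x : H) ^ p ^ j = 1 := by
          have := congrArg Subtype.val hj
          simpa using this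
        obtain ⟨h1, h2⟩ := hZ p hp x hx' ⟨j, hj'⟩ hxb
        refine ⟨?_, h2⟩
        intro c hc
        obtain ⟨s, hs1, hs2, hs3⟩ := h1 c hc
        refine ⟨⟨s, hN2 s hs2⟩, Subtype.ext hs1, ?_, hs3⟩
        obtain ⟨i, hi⟩ := hs2
        exact ⟨i, Subtype.ext hi⟩
      obtain ⟨Q, hQ1, hQ2, hQ3⟩ := ih (H := N) (Δ := Δ) htrans' b hsol' hodd' hZ' (by omega)
      refine ⟨Q.map N.subtype, characteristic_map hN hQ1, ?_, ?_⟩
      · rintro _ ⟨q, hq, rfl⟩ hqb
        have := hQ2 q hq hqb
        rw [this]; rfl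
      · intro c
        obtain ⟨q, hq, hqc⟩ := hQ3 c
        exact ⟨q, ⟨q, hq, rfl⟩, hqc⟩

/-- **Lemma N** -/
theorem regular_complement {H : Type u} [Group H] [Finite H] {Δ : Type v} [MulAction H Δ]
    (htrans : ∀ b c : Δ, ∃ h : H, h • b = c) (b : Δ)
    (hsol : Group.IsSolvable (MulAction.stabilizer H b)) (hodd : Odd (Nat.card (MulAction.stabilizer H b)))
    (hZ : ∀ p, p.Prime → ∀ x : H, x ≠ 1 → (∃ j, x ^ p ^ j = 1) → x • b = b →
      (∀ c : Δ, x • c = c → ∃ s : H, s * x = x * s ∧ (∃ j, s ^ 2 ^ j = 1) ∧ s • b = c) ∧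
      ¬ p ∣ Nat.card {c : Δ // x • c = c}) :
    ∃ Q : Subgroup H, Q.Characteristic ∧ (∀ q ∈ Q, q • b = b → q = 1) ∧ (∀ c : Δ, ∃ q ∈ Q, q • b = c) :=
  regular_complement' _ htrans b hsol hodd hZ le_rfl

end Cfsg.Agent.H38.LN
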