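import Cfsg.Agent.H72.MC9

set_option autoImplicit false
set_option linter.unusedSectionVars false
set_option linter.style.haveILetI false
set_option linter.unusedVariables false

/-!
# p-groups of maximal class and order `p ^ (p + 1)` are not of exponent `p` (helper38)

The norm formula is applied in a quotient of the square of the group, with the second factor twisted
(`s ↦ s ^ 2`, `a ↦ a ^ 4`).
-/

universe u

namespace Cfsg.Agent.H38.MCSq

open Subgroup
open scoped commutatorElement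
open Cfsg.Agent.H72.MC

theorem comm_pow_pow {Q : Type*} [Group Q] {u v : Q} (h1 : Commute u ⁅u, v⁆) (h2 : Commute v ⁅u, v⁆) (m n : ℕ) :
    ⁅u ^ m, v ^ n⁆ = ⁅u, v⁆ ^ (m * n) := by
  have key1 : ∀ m : ℕ, ⁅u ^ m, v⁆ = ⁅u, v⁆ ^ m := by
    intro m
    induction m with
    | zero => simp
    | succ m ih =>
      have h3 : ⁅u ^ (m + 1), v⁆ = u * ⁅u ^ m, v⁆ * u⁻¹ * ⁅u, v⁆ := by
        simp only [commutatorElement_def, pow_succ']; group
      rw [h3, ih, (h1.pow_right m).eq, mul_inv_cancel_right, pow_succ]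
  induction n with
  | zero => simp
  | succ n ih =>
    have h3 : ⁅u ^ m, v ^ (n + 1)⁆ = ⁅u ^ m, v⁆ * (v * ⁅u ^ m, v ^ n⁆ * v⁻¹) := by
      simp only [commutatorElement_def, pow_succ']; group
    rw [h3, ih, key1, (h2.pow_right (m * n)).eq, mul_inv_cancel_right, ← pow_add]
    congr 1; ring

theorem bil {G : Type*} [Group G] {N : Subgroup G} [hN : N.Normal] {x d x' d' : G} {m m' : ℕ}
    (h1 : ⁅d, x' ^ m' * d'⁆ ∈ N) (h2 : ⁅x ^ m, d'⁆ ∈ N) (hc : ∀ g : G, ⁅g, ⁅x, x'⁆⁆ ∈ N) :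
    (QuotientGroup.mk' N) ⁅x ^ m * d, x' ^ m' * d'⁆ = (QuotientGroup.mk' N ⁅x, x'⁆) ^ (m * m') := by
  set π := QuotientGroup.mk' N with hπ
  have hmem : ∀ g, g ∈ N → π g = 1 := fun g hg => (QuotientGroup.eq_one_iff g).2 hg
  have e1 : ⁅x ^ m * d, x' ^ m' * d'⁆ = x ^ m * ⁅d, x' ^ m' * d'⁆ * (x ^ m)⁻¹ * ⁅x ^ m, x' ^ m' * d'⁆ := by
    simp only [commutatorElement_def]; group
  have e2 : ⁅x ^ m, x' ^ m' * d'⁆ = ⁅x ^ m, x' ^ m'⁆ * (x' ^ m' * ⁅x ^ m, d'⁆ * (x' ^ m')⁻¹) := by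
    simp only [commutatorElement_def]; group
  rw [e1, map_mul, map_mul, map_mul, hmem _ h1, mul_one, map_inv, mul_inv_cancel, one_mul, e2, map_mul, map_mul,
    map_mul, hmem _ h2, mul_one, map_inv, mul_inv_cancel, mul_one, map_commutatorElement, map_pow, map_pow,
    map_commutatorElement]
  have hcc : ∀ g, Commute (π g) ⁅π x, π x'⁆ := by
    intro g
    have := hmem _ (hc g)
    rw [map_commutatorElement, map_commutatorElement, commutatorElement_eq_one_iff_mul_comm] at this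
    exact this
  exact comm_pow_pow (hcc x) (hcc x') m m'

variable {G : Type u} [Group G]

/-- the twisted squares of the terms of the filtration -/
def E (G : Type u) [Group G] [Finite G] (j : ℕ) : Subgroup (G × G) where
  carrier := {z | z.1 ∈ D G (j + 1) ∧ z.2 ∈ D G (j + 1) ∧
    QuotientGroup.mk' (D G (j + 2)) z.2 = (QuotientGroup.mk' (D G (j + 2)) z.1) ^ (2 ^ (j + 2))}
  one_mem' := ⟨one_mem _, one_mem _, by simp⟩
  mul_mem' := by
    rintro ⟨x, y⟩ ⟨x', y'⟩ ⟨h1, h2, h3⟩ ⟨h1', h2', h3'⟩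
    refine ⟨mul_mem h1 h1', mul_mem h2 h2', ?_⟩
    simp only [Prod.mk_mul_mk] at *
    rw [map_mul, map_mul, h3, h3', Commute.mul_pow]
    have h4 : ⁅x, x'⁆ ∈ D G (j + 2) := by
      have h5 := comm_mem_of (D_comm_le (G := G) (i := j + 1) (j := j + 1) (by omega) (by omega)) h1 h1'
      rw [D_of_two (by omega)]
      exact K_anti (by omega) h5
    have h6 : QuotientGroup.mk' (D G (j + 2)) ⁅x, x'⁆ = 1 := (QuotientGroup.eq_one_iff _).2 h4
    rw [map_commutatorElement, commutatorElement_eq_one_iff_mul_comm] at h6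
    exact h6
  inv_mem' := by
    rintro ⟨x, y⟩ ⟨h1, h2, h3⟩
    refine ⟨inv_mem h1, inv_mem h2, ?_⟩
    simp only [Prod.inv_mk] at *
    rw [map_inv, map_inv, h3, inv_pow]

theorem mem_E [Finite G] {j : ℕ} {z : G × G} : z ∈ E G j ↔ z.1 ∈ D G (j + 1) ∧ z.2 ∈ D G (j + 1) ∧
    QuotientGroup.mk' (D G (j + 2)) z.2 = (QuotientGroup.mk' (D G (j + 2)) z.1) ^ (2 ^ (j + 2)) := Iff.rfl

/-- membership through a decomposition -/
theorem decomp [Finite G] {j : ℕ} {x y : G}
    (h : QuotientGroup.mk' (D G (j + 2)) y = (QuotientGroup.mk' (D G (j + 2)) x) ^ (2 ^ (j + 2))) :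
    ∃ d ∈ D G (j + 2), y = x ^ (2 ^ (j + 2)) * d := by
  refine ⟨(x ^ (2 ^ (j + 2)))⁻¹ * y, ?_, by rw [mul_inv_cancel_left]⟩
  rw [← map_pow] at h
  exact QuotientGroup.eq.1 h.symm

theorem mk_eq_of_mem_E {j : ℕ} {x y : G} {N : Subgroup G} [hN : N.Normal] {k : ℕ} (h : N = D G k)
    (hxy : QuotientGroup.mk' N y = (QuotientGroup.mk' N x) ^ j) :
    QuotientGroup.mk' (D G k) y = (QuotientGroup.mk' (D G k) x) ^ j := by
  subst h; exact hxy

variable {p n : ℕ} [hp : Fact p.Prime]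

theorem E_anti [Finite G] (h : Max G p (p + 1)) (hp3 : 3 ≤ p) (j : ℕ) : E G (j + 1) ≤ E G j := by
  rintro ⟨x, y⟩ ⟨h1, h2, h3⟩
  simp only at h1 h2 h3
  refine ⟨h.D_anti (by omega) h1, h.D_anti (by omega) h2, ?_⟩
  have e1 : QuotientGroup.mk' (D G (j + 2)) x = 1 := (QuotientGroup.eq_one_iff _).2 h1
  have e2 : QuotientGroup.mk' (D G (j + 2)) y = 1 := (QuotientGroup.eq_one_iff _).2 h2
  simp only
  rw [e1, e2, one_pow]

theorem E_mono [Finite G] (h : Max G p (p + 1)) (hp3 : 3 ≤ p) {i j : ℕ} (hij : i ≤ j) : E G j ≤ E G i := by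
  induction j, hij using Nat.le_induction with
  | base => exact le_rfl
  | succ j hj ih => exact (E_anti h hp3 j).trans ih

/-- the central subgroup -/
def KK (h : Max G p (p + 1)) (hp3 : 3 ≤ p) : Subgroup (G × G) where
  carrier := {z | z.1 ∈ K G p ∧ z.2 = z.1 ^ (2 ^ (p + 2))}
  one_mem' := ⟨one_mem _, by simp⟩
  mul_mem' := by
    rintro ⟨x, y⟩ ⟨x', y'⟩ ⟨h1, h2⟩ ⟨h1', h2'⟩
    refine ⟨mul_mem h1 h1', ?_⟩
    simp only [Prod.mk_mul_mk] at *
    rw [h2, h2', Commute.mul_pow]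
    exact h.central_of_mem (by omega) (x := x') (by simpa using h1') x
  inv_mem' := by
    rintro ⟨x, y⟩ ⟨h1, h2⟩
    refine ⟨inv_mem h1, ?_⟩
    simp only [Prod.inv_mk] at *
    rw [h2, inv_pow]

theorem KK_normal (h : Max G p (p + 1)) (hp3 : 3 ≤ p) : (KK h hp3).Normal := by
  refine ⟨?_⟩
  rintro ⟨x, y⟩ hxy ⟨g, g'⟩
  have h1 : ∀ g : G, Commute g x := h.central_of_mem (by omega) (by simpa using hxy.1)
  have h2 : ∀ g : G, Commute g y := by
    intro g
    have : y = x ^ (2 ^ (p + 2)) := hxy.2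
    rw [this]
    exact (h1 g).pow_right _
  have : ((g, g') : G × G) * (x, y) * (g, g')⁻¹ = (x, y) := by
    simp only [Prod.inv_mk, Prod.mk_mul_mk]
    rw [(h1 g).eq, (h2 g').eq, mul_inv_cancel_right, mul_inv_cancel_right]
  rw [this]
  exact hxy

theorem top_D {i : ℕ} (hi : 1 ≤ i) {x g : G} (hx : x ∈ D G i) : ⁅g, x⁆ ∈ K G (i + 1) := D_step hi hx

theorem good' (h : Max G p (p + 1)) (hp3 : 3 ≤ p) {i j : ℕ} (hi : 1 ≤ i) (hj : 1 ≤ j) (hij : i + j ≤ p - 1) :
    ⁅D G i, D G j⁆ ≤ K G (i + j + 1) := by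
  have h1 := (Max.blackburn (p := p) (by omega) (p + 1) (by omega) G h).1
  exact h.D_comm (by omega) (N := p - 2) (fun j hj hj' => h1 j hj (by omega)) i j hi hj (by omega)

theorem K_last (h : Max G p (p + 1)) (hp3 : 3 ≤ p) {j : ℕ} (hj : p + 1 ≤ j) : K G j = ⊥ := h.K_big (by omega) hj

/-- commutators of the twisted squares -/
theorem E_comm [Finite G] (h : Max G p (p + 1)) (hp3 : 3 ≤ p) {a b : ℕ} {z w : G × G} (hz : z ∈ E G a) (hw : w ∈ E G b) :
    ∃ e ∈ E G (a + b + 2), ∃ k ∈ KK h hp3, ⁅z, w⁆ = e * k := by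
  obtain ⟨x, y⟩ := z
  obtain ⟨x', y'⟩ := w
  obtain ⟨h1, h2, h3⟩ := hz
  obtain ⟨h1', h2', h3'⟩ := hw
  simp only at h1 h2 h3 h1' h2' h3'
  obtain ⟨d, hd, hyd⟩ := decomp h3
  obtain ⟨d', hd', hyd'⟩ := decomp h3'
  have hcomm : ⁅((x, y) : G × G), (x', y')⁆ = (⁅x, x'⁆, ⁅y, y'⁆) := by
    simp only [commutatorElement_def, Prod.inv_mk, Prod.mk_mul_mk]
  rw [hcomm]
  rcases Nat.lt_or_ge (a + b + 3) p with hcase | hcase
  · -- good range
    refine ⟨(⁅x, x'⁆, ⁅y, y'⁆), ?_, 1, one_mem _, (mul_one _).symm⟩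
    have g1 : ∀ {u v : G}, u ∈ D G (a + 1) → v ∈ D G (b + 1) → ⁅u, v⁆ ∈ K G (a + b + 3) := by
      intro u v hu hv
      have := comm_mem_of (good' h hp3 (i := a + 1) (j := b + 1) (by omega) (by omega) (by omega)) hu hv
      rwa [show a + 1 + (b + 1) + 1 = a + b + 3 by ring] at this
    refine ⟨?_, ?_, ?_⟩
    · rw [D_of_two (by omega), show a + b + 2 + 1 = a + b + 3 by ring]; exact g1 h1 h1'
    · rw [D_of_two (by omega), show a + b + 2 + 1 = a + b + 3 by ring]; exact g1 h2 h2'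
    · simp only
      have hDK : D G (a + b + 2 + 2) = K G (a + b + 4) := by
        rw [D_of_two (by omega)]
      have hb := bil (N := D G (a + b + 2 + 2)) (x := x) (d := d) (x' := x') (d' := d') (m := 2 ^ (a + 2)) (m' := 2 ^ (b + 2))
        (by
          rw [hDK, ← hyd']
          have := comm_mem_of (good' h hp3 (i := a + 2) (j := b + 1) (by omega) (by omega) (by omega)) hd h2'
          rwa [show a + 2 + (b + 1) + 1 = a + b + 4 by ring] at this)
        (by
          rw [hDK]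
          have := comm_mem_of (good' h hp3 (i := a + 1) (j := b + 2) (by omega) (by omega) (by omega)) (pow_mem h1 (2 ^ (a + 2))) hd'
          rwa [show a + 1 + (b + 2) + 1 = a + b + 4 by ring] at this)
        (by
          intro g
          rw [hDK]
          exact comm_top_mem (by omega) (g1 h1 h1'))
      rw [← hyd, ← hyd'] at hb
      rw [hb]
      congr 1
      rw [← pow_add]
      congr 1; ring
  · rcases Nat.lt_or_ge (a + b + 2) p with hcase2 | hcase2
    · -- `a + b + 3 = p`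
      have hab : a + b + 3 = p := by omega
      have g1 : ∀ {u v : G}, u ∈ D G (a + 1) → v ∈ D G (b + 1) → ⁅u, v⁆ ∈ K G p := by
        intro u v hu hv
        have := comm_mem_of (good' h hp3 (i := a + 1) (j := b + 1) (by omega) (by omega) (by omega)) hu hv
        rwa [show a + 1 + (b + 1) + 1 = p by omega] at this
      have c1 := g1 h1 h1'
      have c2 := g1 h2 h2'
      obtain ⟨U, hU⟩ : ∃ U, U = ⁅x, x'⁆ := ⟨_, rfl⟩
      obtain ⟨V, hV⟩ : ∃ V, V = ⁅y, y'⁆ := ⟨_, rfl⟩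
      rw [← hU] at c1 ⊢
      rw [← hV] at c2 ⊢
      have hZ : ∀ {u : G}, u ∈ K G p → u ^ p = 1 := by
        intro u hu
        have h5 := h.card_K (i := p) (by omega) (by omega) (by omega)
        rw [show p + 1 - p = 1 by omega, pow_one] at h5
        have h6 := pow_card_eq_one' (x := (⟨u, hu⟩ : K G p))
        rw [h5] at h6
        exact congrArg Subtype.val h6
      have hcent : ∀ {u : G}, u ∈ K G p → ∀ g : G, Commute g u := fun hu g => h.central_of_mem (by omega) (by simpa using hu) g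
      -- an inverse of `2 ^ (p + 1)` mod `p`
      have hcop : Nat.Coprime (2 ^ (p + 1)) p := by
        apply Nat.Coprime.pow_left
        exact (Nat.coprime_primes Nat.prime_two hp.out).2 (by omega)
      obtain ⟨m, hm⟩ := Nat.exists_mul_mod_eq_one_of_coprime hcop (by omega)
      set c := 2 ^ (p + 1) with hc
      obtain ⟨t, ht⟩ : ∃ t, t = (U ^ c)⁻¹ * V := ⟨_, rfl⟩
      have htK : t ∈ K G p := by rw [ht]; exact mul_mem (inv_mem (pow_mem c1 _)) c2
      have htc : (t ^ m) ^ c = t := by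
        rw [← pow_mul, mul_comm m c, ← Nat.div_add_mod (c * m) p, hm.2, pow_add, pow_mul, hZ htK, one_pow, one_mul, pow_one]
      have hkK : t ^ m ∈ K G p := pow_mem htK m
      refine ⟨(U * (t ^ m)⁻¹, (U * (t ^ m)⁻¹) ^ c), ?_, (t ^ m, (t ^ m) ^ (2 ^ (p + 2))), ⟨hkK, rfl⟩, ?_⟩
      · have h7 : U * (t ^ m)⁻¹ ∈ K G p := mul_mem c1 (inv_mem hkK)
        refine ⟨?_, ?_, ?_⟩
        · rw [D_of_two (by omega), show a + b + 2 + 1 = p by omega]; exact h7
        · rw [D_of_two (by omega), show a + b + 2 + 1 = p by omega]; exact pow_mem h7 _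
        · simp only
          have hc2 : c = 2 ^ (a + b + 2 + 2) := by rw [hc]; congr 1; omega
          rw [map_pow, hc2]
      · rw [Prod.mk_mul_mk, inv_mul_cancel_right]
        congr 1
        rw [(hcent (inv_mem hkK) U).mul_pow, inv_pow, htc]
        have h8 : (t ^ m) ^ (2 ^ (p + 2)) = t * t := by
          rw [show 2 ^ (p + 2) = c + c by rw [hc]; ring, pow_add, htc]
        rw [h8, ht]
        have h9 := (hcent (inv_mem (pow_mem c1 c)) V).eq
        have h10 := hcent c2 ((U ^ c)⁻¹)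
        group
    · -- `p ≤ a + b + 2`
      refine ⟨1, one_mem _, (⁅x, x'⁆, ⁅y, y'⁆), ?_, (one_mul _).symm⟩
      have g1 : ∀ {i j : ℕ} {u v : G}, 1 ≤ i → 1 ≤ j → u ∈ D G i → v ∈ D G j → ⁅u, v⁆ ∈ K G (i + j) := by
        intro i j u v hi hj hu hv
        exact comm_mem_of (D_comm_le hi hj) hu hv
      have hK1 : K G (p + 1) = ⊥ := K_last h hp3 le_rfl
      have hb := bil (N := K G (p + 1)) (x := x) (d := d) (x' := x') (d' := d') (m := 2 ^ (a + 2)) (m' := 2 ^ (b + 2))
        (by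
          rw [← hyd']
          exact K_anti (by omega) (g1 (i := a + 2) (j := b + 1) (by omega) (by omega) hd h2'))
        (K_anti (by omega) (g1 (i := a + 1) (j := b + 2) (by omega) (by omega) (pow_mem h1 _) hd'))
        (by
          intro g
          exact comm_top_mem (by omega) (K_anti (by omega) (g1 (by omega) (by omega) h1 h1')))
      rw [← hyd, ← hyd', ← map_pow] at hb
      have hb2 : (⁅x, x'⁆ ^ (2 ^ (a + 2) * 2 ^ (b + 2)))⁻¹ * ⁅y, y'⁆ ∈ K G (p + 1) := QuotientGroup.eq.1 hb.symm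
      rw [hK1, mem_bot] at hb2
      have hb3 : ⁅y, y'⁆ = ⁅x, x'⁆ ^ (2 ^ (a + 2) * 2 ^ (b + 2)) := by
        rw [inv_mul_eq_one] at hb2; exact hb2.symm
      refine ⟨K_anti (by omega) (g1 (by omega) (by omega) h1 h1'), ?_⟩
      simp only
      rw [hb3]
      rcases Nat.lt_or_ge p (a + b + 2) with h11 | h11
      · have h12 : ⁅x, x'⁆ ∈ K G (p + 1) := K_anti (by omega) (g1 (by omega) (by omega) h1 h1')
        rw [hK1, mem_bot] at h12
        rw [h12, one_pow, one_pow]
      · congr 1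
        rw [← pow_add]
        congr 1; omega

/-- `del` on the twisted squares -/
theorem E_del [Finite G] (h : Max G p (p + 1)) (hp3 : 3 ≤ p) (s : G) {j : ℕ} {z : G × G} (hz : z ∈ E G j) :
    del ((s, s ^ 2) : G × G) z ∈ E G (j + 1) := by
  obtain ⟨x, y⟩ := z
  obtain ⟨h1, h2, h3⟩ := hz
  simp only at h1 h2 h3
  obtain ⟨d, hd, hyd⟩ := decomp h3
  have hdel : del ((s, s ^ 2) : G × G) (x, y) = (del s x, del (s ^ 2) y) := by
    simp only [del, Prod.inv_mk, Prod.mk_mul_mk]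
  rw [hdel]
  have m1 : ∀ {t u : G}, u ∈ D G (j + 1) → del t u ∈ D G (j + 1 + 1) := by
    intro t u hu
    rw [D_of_two (by omega), del_mem_iff]
    exact top_D (by omega) hu
  refine ⟨m1 h1, m1 h2, ?_⟩
  simp only
  set N := D G (j + 1 + 2) with hN
  have hNK : N = K G (j + 3) := by rw [hN, D_of_two (by omega)]
  set π := QuotientGroup.mk' N with hπ
  have hd1 : ∀ {t u : G}, u ∈ D G (j + 1) → π (del t u) = π ⁅t, u⁆ := by
    intro t u hu
    have e1 : ⁅t, u⁆ ∈ K G (j + 2) := top_D (by omega) hu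
    have e2 : ⁅u⁻¹, ⁅t, u⁆⁆ ∈ N := by rw [hNK]; exact comm_top_mem (by omega) e1
    have e3 : del t u = ⁅u⁻¹, ⁅t, u⁆⁆ * ⁅t, u⁆ := by
      simp only [del, commutatorElement_def]; group
    have e4 : π ⁅u⁻¹, ⁅t, u⁆⁆ = 1 := (QuotientGroup.eq_one_iff _).2 e2
    rw [e3, map_mul, e4, one_mul]
  have hb := bil (N := N) (x := s) (d := 1) (x' := x) (d' := d) (m := 2) (m' := 2 ^ (j + 2))
    (by rw [commutatorElement_one_left]; exact one_mem _)
    (by rw [hNK]; exact top_D (by omega) hd)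
    (by
      intro g
      rw [hNK]
      exact comm_top_mem (by omega) (top_D (i := j + 1) (by omega) h1))
  rw [mul_one, ← hyd] at hb
  rw [hd1 h1, hd1 h2, hb]
  congr 1
  ring

/-- a group of maximal class and order `p ^ (p + 1)`, `p` odd, is not of exponent `p` -/
theorem exists_pow_ne_one (h : Max G p (p + 1)) (hp2 : p ≠ 2) : ∃ x : G, x ^ p ≠ 1 := by
  have hp3 : 3 ≤ p := by have := hp.out.two_le; omega
  by_contra hexp
  push Not at hexp
  haveI := h.finite
  haveI := KK_normal h hp3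
  obtain ⟨s, hs⟩ := h.exists_unif hp2 (by omega)
  obtain ⟨a, ha, ha'⟩ := h.exists_a (by omega)
  let W := (G × G) ⧸ KK h hp3
  let q : G × G →* W := QuotientGroup.mk' (KK h hp3)
  have hqK : ∀ k, k ∈ KK h hp3 → q k = 1 := fun k hk => (QuotientGroup.eq_one_iff _).2 hk
  have hWexp : ∀ x : W, x ^ p = 1 := by
    intro x
    obtain ⟨z, rfl⟩ := QuotientGroup.mk'_surjective _ x
    show (q z) ^ p = 1
    rw [← map_pow]
    have : z ^ p = 1 := Prod.ext (hexp _) (hexp _)
    rw [this, map_one]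
  let F : ℕ → Subgroup W := fun k => (E G (k - 2)).map q
  have hA : ((a, a ^ 4) : G × G) ∈ E G 0 := by
    refine ⟨ha, pow_mem (show a ∈ D G 1 from ha) 4, ?_⟩
    simp only
    rw [map_pow]
    norm_num
  have hit : ∀ j, (del ((s, s ^ 2) : G × G))^[j] (a, a ^ 4) ∈ E G j := by
    intro j
    induction j with
    | zero => exact hA
    | succ j ih =>
      rw [Function.iterate_succ_apply']
      exact E_del h hp3 s ih
  have hqdel : ∀ z w : G × G, q (del z w) = del (q z) (q w) := by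
    intro z w
    simp only [del, map_mul, map_inv]
  have hqit : ∀ j, q ((del ((s, s ^ 2) : G × G))^[j] (a, a ^ 4)) = (del (q (s, s ^ 2)))^[j] (q (a, a ^ 4)) := by
    intro j
    induction j with
    | zero => rfl
    | succ j ih => rw [Function.iterate_succ_apply', Function.iterate_succ_apply', hqdel, ih]
  have hfix : ∀ j, (del s)^[j] a = ((del ((s, s ^ 2) : G × G))^[j] (a, a ^ 4)).1 := by
    intro j
    induction j with
    | zero => rfl
    | succ j ih =>
      rw [Function.iterate_succ_apply', Function.iterate_succ_apply', ih]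
      rfl
  have hnorm := norm_formula (F := F) (p := p) hp2
    (fun i => Subgroup.map_mono (E_mono h hp3 (by omega)))
    (by
      intro i j
      rw [commutator_le]
      rintro _ ⟨z, hz, rfl⟩ _ ⟨w, hw, rfl⟩
      obtain ⟨e, he, k, hk, hek⟩ := E_comm h hp3 hz hw
      refine ⟨e, E_mono h hp3 (by omega) he, ?_⟩
      rw [← map_commutatorElement, hek, map_mul, hqK k hk, mul_one])
    (i := 1) le_rfl (a := q (a, a ^ 4)) (s := q (s, s ^ 2))
    (by
      intro j
      rw [← hqit]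
      refine ⟨_, ?_, rfl⟩
      rw [show 1 + 1 + j - 2 = j by omega]
      exact hit j)
    (fun x _ => hWexp x)
    (by
      show (E G (1 + 1 + p - 2)).map q = ⊥
      rw [eq_bot_iff]
      rintro _ ⟨z, hz, rfl⟩
      obtain ⟨h1, h2, -⟩ := hz
      rw [D_of_two (by omega), K_last h hp3 (by omega), mem_bot] at h1 h2
      have : z = 1 := Prod.ext h1 h2
      rw [this, map_one]
      exact one_mem _)
  rw [hWexp, hWexp, hWexp, one_mul, mul_one, ← hqit] at hnorm
  have hU := (QuotientGroup.eq_one_iff _).1 hnorm.symm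
  have hU2 := hit (p - 1)
  have hU3 := hfix (p - 1)
  set U := (del ((s, s ^ 2) : G × G))^[p - 1] (a, a ^ 4) with hUdef
  obtain ⟨hk1, hk2⟩ := hU
  obtain ⟨he1, he2, he3⟩ := hU2
  have hne := h.iter_del_depth (by omega) hs (c := a) (i := 1) le_rfl ha (by rw [D_of_two (by omega)]; exact ha') (p - 1) (by omega)
  rw [D_of_two (by omega), show 1 + (p - 1) + 1 = p + 1 by omega, K_last h hp3 le_rfl, mem_bot, hU3] at hne
  apply hne
  have h4 : U.2 = U.1 ^ (2 ^ (p + 1)) := by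
    obtain ⟨d, hd, hyd⟩ := decomp (x := U.1) (y := U.2) he3
    rw [D_of_two (by omega), K_last h hp3 (by omega), mem_bot] at hd
    rw [hd, mul_one, show p - 1 + 2 = p + 1 by omega] at hyd
    exact hyd
  rw [hk2, pow_succ 2 (p + 1), pow_mul, sq] at h4
  have h5 : U.1 ^ (2 ^ (p + 1)) = 1 := by
    exact mul_eq_left.1 h4
  have h6 : U.1 ^ p = 1 := hexp _
  have h7 : orderOf U.1 ∣ Nat.gcd (2 ^ (p + 1)) p := Nat.dvd_gcd (orderOf_dvd_of_pow_eq_one h5) (orderOf_dvd_of_pow_eq_one h6)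
  have hcop : Nat.Coprime (2 ^ (p + 1)) p := by
    apply Nat.Coprime.pow_left
    exact (Nat.coprime_primes Nat.prime_two hp.out).2 (by omega)
  rw [hcop.gcd_eq_one, Nat.dvd_one, orderOf_eq_one_iff] at h7
  exact h7

end Cfsg.Agent.H38.MCSq
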