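import Cfsg.Agent.H38.LemN
import Cfsg.Agent.H30.BendSpec

set_option autoImplicit false

namespace Cfsg.Agent.H38.LN

universe u v

/-- SPEC 2 of `H30.BendSpec` -/
theorem nspec : Cfsg.Agent.H30.Bend.NSpec.{u, v} := by
  intro H _ _ Δ _ _ b htrans hsol hodd hZ
  exact regular_complement htrans b hsol hodd hZ

end Cfsg.Agent.H38.LN
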